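import Groth.Agent.FibreDimChart.BaseChange
import Groth.Agent.FieldExtLD.Scheme
import Groth.Agent.DimTheory.IrrFibres
import Mathlib.AlgebraicGeometry.AffineSpace
import Mathlib.RingTheory.KrullDimension.Polynomial

/-! # Fibre dimension of affine space -/

set_option autoImplicit false
set_option linter.style.haveILetI false

universe u

open CategoryTheory CategoryTheory.Limits AlgebraicGeometry IsLocalRing

namespace Groth.Agent.FibDimComp

/-- On an irreducible scheme locally of finite type over a field all local dimensions are equal. -/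
theorem localDim_of_irreducible {k : Type u} [Field k] {Z : Scheme.{u}} [IrreducibleSpace Z]
    (q : Z ⟶ Spec (CommRingCat.of k)) [LocallyOfFiniteType q] (z : Z) :
    FlatMor.localDim Z z = topologicalKrullDim Z := by
  obtain ⟨y, -, hmax, hy⟩ := DimTheory.exists_height_eq_add_coheight q z
  have hη : y ≤ genericPoint Z := genericPoint_specializes y
  have h : ∀ x : Z, y ⤳ x := fun x =>
    (show y ⤳ genericPoint Z from hmax _ hη).trans (genericPoint_specializes x)
  rw [FieldExtLD.localDim_eq q z, DimTheory.dim_eq_height_of_forall_specializes h, hy]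

theorem fibreDimAt_affineSpace_field (K : Type u) [Field K] (n : ℕ)
    (z : 𝔸(ULift.{u} (Fin n); Spec (CommRingCat.of K))) :
    FlatMor.fibreDimAt (𝔸(ULift.{u} (Fin n); Spec (CommRingCat.of K)) ↘ Spec (CommRingCat.of K)) z =
      (n : WithBot ℕ∞) := by
  let q := 𝔸(ULift.{u} (Fin n); Spec (CommRingCat.of K)) ↘ Spec (CommRingCat.of K)
  haveI : LocallyOfFiniteType q := inferInstance
  haveI : IrreducibleSpace ↥(Spec (CommRingCat.of K)) :=
    inferInstanceAs (IrreducibleSpace (PrimeSpectrum K))
  rw [FibreDimChart.fibreDimAt_eq_localDim_preimage]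
  have hu : q ⁻¹' {q z} = Set.univ := Set.eq_univ_of_forall fun w =>
    (Subsingleton.elim (α := PrimeSpectrum K) (q w) (q z))
  rw [← FieldExtLD.localDim_of_isOpenEmbedding
    ((IsOpen.isOpenEmbedding_subtypeVal (hu ▸ isOpen_univ : IsOpen (q ⁻¹' {q z})))) ⟨z, rfl⟩]
  rw [localDim_of_irreducible q]
  have e : topologicalKrullDim ↥𝔸(ULift.{u} (Fin n); Spec (CommRingCat.of K)) =
      topologicalKrullDim (PrimeSpectrum (MvPolynomial (ULift.{u} (Fin n)) K)) :=
    IsHomeomorph.topologicalKrullDim_eq _
      (AffineSpace.SpecIso (ULift.{u} (Fin n)) (CommRingCat.of K)).hom.homeomorph.isHomeomorph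
  rw [e, PrimeSpectrum.topologicalKrullDim_eq_ringKrullDim, MvPolynomial.ringKrullDim_of_isNoetherianRing,
    ringKrullDim_eq_zero_of_field, zero_add, Nat.card_ulift, Nat.card_fin]

theorem fibreDimAt_affineSpace (S : Scheme.{u}) (n : ℕ) (a : 𝔸(ULift.{u} (Fin n); S)) :
    FlatMor.fibreDimAt (𝔸(ULift.{u} (Fin n); S) ↘ S) a = (n : WithBot ℕ∞) := by
  let q := 𝔸(ULift.{u} (Fin n); S) ↘ S
  let g := S.fromSpecResidueField (q a)
  have hsq := AffineSpace.isPullback_map (n := ULift.{u} (Fin n)) g
  obtain ⟨w, hw⟩ : q a ∈ Set.range g := by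
    rw [S.range_fromSpecResidueField (q a)]; rfl
  obtain ⟨z', hz', -⟩ := Scheme.Pullback.exists_preimage_pullback (f := q) (g := g) a w hw.symm
  let z := hsq.isoPullback.inv z'
  have hz : AffineSpace.map (ULift.{u} (Fin n)) g z = a := by
    refine Eq.trans ?_ hz'
    rw [← Scheme.Hom.comp_apply, hsq.isoPullback_inv_fst]
  exact (congrArg (FlatMor.fibreDimAt q) hz.symm).trans
    ((FibreDimChart.fibreDimAt_of_isPullback q g _ _ hsq z).symm.trans
      (fibreDimAt_affineSpace_field (S.residueField (q a)) n z))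

end Groth.Agent.FibDimComp
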