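import Groth.Agent.AlgSpDesc.ResTrdeg
import Groth.Agent.AlgSpDesc.FlatDimFormula
import Groth.Agent.CMAux.DimIneq
import Groth.Agent.ClPush.CompFlat
import Groth.Agent.FlatLocalDepth.FibreStalk

/-! # Fibre dimension of a composite -/

set_option autoImplicit false
set_option linter.style.haveILetI false
set_option backward.isDefEq.respectTransparency false

universe u

open CategoryTheory CategoryTheory.Limits AlgebraicGeometry IsLocalRing

namespace Groth.Agent.FibDimComp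

variable {X Y S : Scheme.{u}}

lemma isNoetherianRing_fibre (f : X ⟶ Y) [LocallyOfFiniteType f] (x : X) :
    IsNoetherianRing (X.presheaf.stalk x ⧸ (maximalIdeal (Y.presheaf.stalk (f x))).map (f.stalkMap x).hom) := by
  haveI : LocallyOfFiniteType (f.fiberToSpecResidueField (f x)) :=
    MorphismProperty.pullback_snd _ _ inferInstance
  haveI : IsLocallyNoetherian (f.fiber (f x)) :=
    LocallyOfFiniteType.isLocallyNoetherian (f.fiberToSpecResidueField (f x))
  obtain ⟨e⟩ := FlatLocalDepth.nonempty_asFiber_stalk_equiv f x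
  exact isNoetherianRing_of_ringEquiv _ e.symm

lemma fibreDimAt_eq (f : X ⟶ Y) [LocallyOfFiniteType f] (x : X) :
    FlatMor.fibreDimAt f x =
      ringKrullDim (X.presheaf.stalk x ⧸ (maximalIdeal (Y.presheaf.stalk (f x))).map (f.stalkMap x).hom) +
      ((Cardinal.toENat (Dual3.resTrdeg f x) : ℕ∞) : WithBot ℕ∞) := by
  obtain ⟨e⟩ := FlatLocalDepth.nonempty_asFiber_stalk_equiv f x
  rw [AlgSpDesc.fibreDimAt_eq_stalk_add_resTrdeg f x, ← ringKrullDim_eq_of_ringEquiv e]

theorem dim_quot {O P Q : Type u} [CommRing O] [CommRing P] [CommRing Q] [IsLocalRing O] [IsLocalRing P]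
    [IsLocalRing Q] (φ : O →+* P) (ψ : P →+* Q) [IsLocalHom φ] [IsLocalHom ψ]
    (hA : IsNoetherianRing (P ⧸ (maximalIdeal O).map φ))
    (hB : IsNoetherianRing (Q ⧸ (maximalIdeal O).map (ψ.comp φ))) :
    ringKrullDim (Q ⧸ (maximalIdeal O).map (ψ.comp φ)) ≤
        ringKrullDim (P ⧸ (maximalIdeal O).map φ) + ringKrullDim (Q ⧸ (maximalIdeal P).map ψ) ∧
      (ψ.Flat → ringKrullDim (Q ⧸ (maximalIdeal O).map (ψ.comp φ)) =
        ringKrullDim (P ⧸ (maximalIdeal O).map φ) + ringKrullDim (Q ⧸ (maximalIdeal P).map ψ)) := by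
  algebraize [ψ]
  set I := (maximalIdeal O).map φ
  have hII : (maximalIdeal O).map (ψ.comp φ) = I.map ψ := (Ideal.map_map φ ψ).symm
  rw [hII] at hB ⊢
  have hI : I ≤ maximalIdeal P := map_maximalIdeal_le φ
  have hP : (maximalIdeal P).map ψ ≤ maximalIdeal Q := map_maximalIdeal_le ψ
  have hJ : I.map ψ ≤ maximalIdeal Q := (Ideal.map_mono hI).trans hP
  haveI : Nontrivial (Q ⧸ I.map ψ) :=
    Ideal.Quotient.nontrivial_iff.2 (ne_top_of_le_ne_top (maximalIdeal.isMaximal Q).ne_top hJ)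
  haveI : Nontrivial (P ⧸ I) :=
    Ideal.Quotient.nontrivial_iff.2 (ne_top_of_le_ne_top (maximalIdeal.isMaximal P).ne_top hI)
  haveI : IsLocalRing (Q ⧸ I.map ψ) := IsLocalRing.of_surjective' _ Ideal.Quotient.mk_surjective
  haveI : IsLocalRing (P ⧸ I) := IsLocalRing.of_surjective' _ Ideal.Quotient.mk_surjective
  haveI : IsLocalHom (Ideal.Quotient.mk I) := IsLocalHom.of_surjective _ Ideal.Quotient.mk_surjective
  haveI : IsLocalHom (Ideal.Quotient.mk (I.map ψ)) := IsLocalHom.of_surjective _ Ideal.Quotient.mk_surjective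
  let θ : P ⧸ I →+* Q ⧸ I.map ψ := Ideal.quotientMap (I.map ψ) ψ Ideal.le_comap_map
  haveI : IsLocalHom θ := ⟨fun y hy => by
    obtain ⟨a, rfl⟩ := Ideal.Quotient.mk_surjective y
    exact ((isUnit_of_map_unit ψ a) (isUnit_of_map_unit (Ideal.Quotient.mk (I.map ψ)) _ hy)).map _⟩
  have hm : (maximalIdeal (P ⧸ I)).map θ = ((maximalIdeal P).map ψ).map (Ideal.Quotient.mk (I.map ψ)) := by
    rw [← IsLocalRing.map_maximalIdeal_of_surjective _ (Ideal.Quotient.mk_surjective (I := I)),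
      Ideal.map_map (Ideal.Quotient.mk I) θ, Ideal.map_map ψ (Ideal.Quotient.mk (I.map ψ))]
    rfl
  have he : ringKrullDim ((Q ⧸ I.map ψ) ⧸ (maximalIdeal (P ⧸ I)).map θ) =
      ringKrullDim (Q ⧸ (maximalIdeal P).map ψ) := by
    rw [hm, ringKrullDim_eq_of_ringEquiv (DoubleQuot.quotQuotEquivQuotSup (I.map ψ) _),
      sup_eq_right.2 (Ideal.map_mono hI)]
  refine ⟨?_, fun hflat => ?_⟩
  · letI := θ.toAlgebra
    rw [← he]
    exact CMAux.ringKrullDim_le_add_fibre (P ⧸ I) (Q ⧸ I.map ψ)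
  · rw [← he]
    haveI : Module.Flat P Q := hflat
    exact AlgSpDesc.ringKrullDim_eq_add_of_flat θ (ClPush.flat_quotientMap (R := P) (P := Q) I)

theorem fibreDimAt_comp (f : X ⟶ Y) (g : Y ⟶ S) [LocallyOfFiniteType f] [LocallyOfFiniteType g] (x : X) :
    FlatMor.fibreDimAt (f ≫ g) x ≤ FlatMor.fibreDimAt f x + FlatMor.fibreDimAt g (f x) ∧
      ((f.stalkMap x).hom.Flat →
        FlatMor.fibreDimAt (f ≫ g) x = FlatMor.fibreDimAt f x + FlatMor.fibreDimAt g (f x)) := by
  have hB := isNoetherianRing_fibre (f ≫ g) x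
  have hc : ((f ≫ g).stalkMap x).hom = (f.stalkMap x).hom.comp (g.stalkMap (f x)).hom := by
    rw [Scheme.Hom.stalkMap_comp]; rfl
  rw [hc] at hB
  obtain ⟨h1, h2⟩ := dim_quot (g.stalkMap (f x)).hom (f.stalkMap x).hom
    (isNoetherianRing_fibre g (f x)) hB
  rw [fibreDimAt_eq, fibreDimAt_eq, fibreDimAt_eq, AlgSpDesc.resTrdeg_comp, map_add, WithBot.coe_add, hc]
  refine ⟨(add_le_add h1 le_rfl).trans (le_of_eq ?_), fun hf => (congrArg (· + _) (h2 hf)).trans ?_⟩ <;>
    exact (add_add_add_comm _ _ _ _).trans (add_comm _ _)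

end Groth.Agent.FibDimComp
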